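import Mathlib
import Cfsg.Agent.Helper99.Pron.Defs

/-!
# S2225/S2226 block BU1 (helper90 for helper99): the semidihedral `2`-subgroup of `GU_2(q)`,
`q ≡ 1 (mod 4)`, in a hyperbolic basis — definitions

`dg l m = diag(l, m)`, `ag l m = [[0, l], [m, 0]]`, `Lam2 F` = the `2`-power torsion of `Fˣ`,
`fr q l = l⁻¹ ^ q`, `P0 q hq = {dg l (fr q l), ag l (fr q l) : l ∈ Lam2 F}`, `Jm = [[0,1],[1,0]]`,
`UJ q a : aᵀ * Jm * a^(q) = Jm`.
-/

set_option autoImplicit false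

namespace Cfsg.Agent.Helper90.Pron

open Matrix Cfsg.Agent.Helper99.Pron

variable {F : Type*} [Field F]

/-- `diag(l, m)` -/
def dg (l m : Fˣ) : GL (Fin 2) F :=
  ⟨!![(l : F), 0; 0, (m : F)], !![((l⁻¹ : Fˣ) : F), 0; 0, ((m⁻¹ : Fˣ) : F)],
    by ext i j; fin_cases i <;> fin_cases j <;> simp [Matrix.mul_apply, Fin.sum_univ_two],
    by ext i j; fin_cases i <;> fin_cases j <;> simp [Matrix.mul_apply, Fin.sum_univ_two]⟩

/-- `[[0, l], [m, 0]]` -/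
def ag (l m : Fˣ) : GL (Fin 2) F :=
  ⟨!![0, (l : F); (m : F), 0], !![0, ((m⁻¹ : Fˣ) : F); ((l⁻¹ : Fˣ) : F), 0],
    by ext i j; fin_cases i <;> fin_cases j <;> simp [Matrix.mul_apply, Fin.sum_univ_two],
    by ext i j; fin_cases i <;> fin_cases j <;> simp [Matrix.mul_apply, Fin.sum_univ_two]⟩

@[simp] theorem dg_val (l m : Fˣ) :
    ((dg l m : GL (Fin 2) F) : Matrix (Fin 2) (Fin 2) F) = !![(l : F), 0; 0, (m : F)] := rfl

@[simp] theorem ag_val (l m : Fˣ) :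
    ((ag l m : GL (Fin 2) F) : Matrix (Fin 2) (Fin 2) F) = !![0, (l : F); (m : F), 0] := rfl

theorem dg_mul_dg (l m l' m' : Fˣ) : dg l m * dg l' m' = dg (l * l') (m * m') := by
  apply Units.ext
  ext i j
  fin_cases i <;> fin_cases j <;> simp [Matrix.mul_apply, Fin.sum_univ_two]

theorem dg_mul_ag (l m l' m' : Fˣ) : dg l m * ag l' m' = ag (l * l') (m * m') := by
  apply Units.ext
  ext i j
  fin_cases i <;> fin_cases j <;> simp [Matrix.mul_apply, Fin.sum_univ_two]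

theorem ag_mul_dg (l m l' m' : Fˣ) : ag l m * dg l' m' = ag (l * m') (m * l') := by
  apply Units.ext
  ext i j
  fin_cases i <;> fin_cases j <;> simp [Matrix.mul_apply, Fin.sum_univ_two]

theorem ag_mul_ag (l m l' m' : Fˣ) : ag l m * ag l' m' = dg (l * m') (m * l') := by
  apply Units.ext
  ext i j
  fin_cases i <;> fin_cases j <;> simp [Matrix.mul_apply, Fin.sum_univ_two]

theorem dg_one : dg (1 : Fˣ) 1 = 1 := by
  apply Units.ext
  ext i j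
  fin_cases i <;> fin_cases j <;> simp

theorem dg_inv (l m : Fˣ) : (dg l m)⁻¹ = dg l⁻¹ m⁻¹ := by
  rw [inv_eq_iff_mul_eq_one, dg_mul_dg, mul_inv_cancel, mul_inv_cancel, dg_one]

theorem ag_inv (l m : Fˣ) : (ag l m)⁻¹ = ag m⁻¹ l⁻¹ := by
  rw [inv_eq_iff_mul_eq_one, ag_mul_ag, mul_inv_cancel, mul_inv_cancel, dg_one]

theorem dg_pow (l m : Fˣ) (n : ℕ) : (dg l m) ^ n = dg (l ^ n) (m ^ n) := by
  induction n with
  | zero => simp [dg_one]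
  | succ n ih => rw [pow_succ, ih, dg_mul_dg, ← pow_succ, ← pow_succ]

theorem dg_ne_ag (l m l' m' : Fˣ) : dg l m ≠ ag l' m' := by
  intro h
  have h1 := congrArg (fun g : GL (Fin 2) F => (g : Matrix (Fin 2) (Fin 2) F) 0 0) h
  simp at h1

theorem dg_injective (l m l' m' : Fˣ) (h : dg l m = dg l' m') : l = l' ∧ m = m' := by
  have h1 := congrArg (fun g : GL (Fin 2) F => (g : Matrix (Fin 2) (Fin 2) F) 0 0) h
  have h2 := congrArg (fun g : GL (Fin 2) F => (g : Matrix (Fin 2) (Fin 2) F) 1 1) h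
  simp at h1 h2
  exact ⟨Units.ext h1, Units.ext h2⟩

theorem ag_injective (l m l' m' : Fˣ) (h : ag l m = ag l' m') : l = l' ∧ m = m' := by
  have h1 := congrArg (fun g : GL (Fin 2) F => (g : Matrix (Fin 2) (Fin 2) F) 0 1) h
  have h2 := congrArg (fun g : GL (Fin 2) F => (g : Matrix (Fin 2) (Fin 2) F) 1 0) h
  simp at h1 h2
  exact ⟨Units.ext h1, Units.ext h2⟩

theorem det_dg (l m : Fˣ) : ((dg l m : GL (Fin 2) F) : Matrix (Fin 2) (Fin 2) F).det = l * m := by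
  rw [dg_val, det_fin_two]
  simp

theorem det_ag (l m : Fˣ) :
    ((ag l m : GL (Fin 2) F) : Matrix (Fin 2) (Fin 2) F).det = -((l : F) * m) := by
  rw [ag_val, det_fin_two]
  simp

theorem sc_eq_dg (l : Fˣ) : (sc l : GL (Fin 2) F) = dg l l := by
  apply Units.ext
  ext i j
  fin_cases i <;> fin_cases j <;> simp

/-- the `2`-power torsion of `Fˣ` -/
def Lam2 (F : Type*) [Field F] : Subgroup Fˣ where
  carrier := {l | ∃ k : ℕ, l ^ (2 ^ k) = 1}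
  one_mem' := ⟨0, one_pow _⟩
  mul_mem' := by
    rintro a b ⟨k, hk⟩ ⟨j, hj⟩
    refine ⟨k + j, ?_⟩
    rw [mul_pow, pow_add, pow_mul, hk, one_pow, mul_comm (2 ^ k), pow_mul, hj, one_pow, one_mul]
  inv_mem' := by
    rintro a ⟨k, hk⟩
    exact ⟨k, by rw [inv_pow, hk, inv_one]⟩

theorem mem_Lam2 {l : Fˣ} : l ∈ Lam2 F ↔ ∃ k : ℕ, l ^ (2 ^ k) = 1 := Iff.rfl

/-- `l ↦ l⁻¹ ^ q` -/
def fr (q : ℕ) : Fˣ →* Fˣ := (powMonoidHom q).comp invMonoidHom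

@[simp] theorem fr_apply (q : ℕ) (l : Fˣ) : fr q l = l⁻¹ ^ q := rfl

theorem fr_mem_Lam2 (q : ℕ) {l : Fˣ} (hl : l ∈ Lam2 F) : fr q l ∈ Lam2 F := by
  rw [fr_apply]
  exact (Lam2 F).pow_mem ((Lam2 F).inv_mem hl) q

/-- the semidihedral group in the hyperbolic basis -/
def P0 (q : ℕ) (hq : ∀ l : Fˣ, fr q (fr q l) = l) : Subgroup (GL (Fin 2) F) where
  carrier := {g | ∃ l ∈ Lam2 F, g = dg l (fr q l) ∨ g = ag l (fr q l)}
  one_mem' := ⟨1, (Lam2 F).one_mem, Or.inl (by rw [map_one, dg_one])⟩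
  mul_mem' := by
    rintro _ _ ⟨l, hl, rfl | rfl⟩ ⟨l', hl', rfl | rfl⟩
    · exact ⟨l * l', (Lam2 F).mul_mem hl hl', Or.inl (by rw [dg_mul_dg, map_mul])⟩
    · exact ⟨l * l', (Lam2 F).mul_mem hl hl', Or.inr (by rw [dg_mul_ag, map_mul])⟩
    · exact ⟨l * fr q l', (Lam2 F).mul_mem hl (fr_mem_Lam2 q hl'),
        Or.inr (by rw [ag_mul_dg, map_mul, hq])⟩
    · exact ⟨l * fr q l', (Lam2 F).mul_mem hl (fr_mem_Lam2 q hl'),
        Or.inl (by rw [ag_mul_ag, map_mul, hq])⟩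
  inv_mem' := by
    rintro _ ⟨l, hl, rfl | rfl⟩
    · exact ⟨l⁻¹, (Lam2 F).inv_mem hl, Or.inl (by rw [dg_inv, map_inv])⟩
    · exact ⟨(fr q l)⁻¹, (Lam2 F).inv_mem (fr_mem_Lam2 q hl),
        Or.inr (by rw [ag_inv, map_inv, hq])⟩

theorem mem_P0 {q : ℕ} {hq : ∀ l : Fˣ, fr q (fr q l) = l} {g : GL (Fin 2) F} :
    g ∈ P0 q hq ↔ ∃ l ∈ Lam2 F, g = dg l (fr q l) ∨ g = ag l (fr q l) := Iff.rfl

theorem dg_mem_P0 {q : ℕ} (hq : ∀ l : Fˣ, fr q (fr q l) = l) {l : Fˣ} (hl : l ∈ Lam2 F) :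
    dg l (fr q l) ∈ P0 q hq := ⟨l, hl, Or.inl rfl⟩

theorem ag_mem_P0 {q : ℕ} (hq : ∀ l : Fˣ, fr q (fr q l) = l) {l : Fˣ} (hl : l ∈ Lam2 F) :
    ag l (fr q l) ∈ P0 q hq := ⟨l, hl, Or.inr rfl⟩

/-- `[[0,1],[1,0]] ∈ P0` -/
theorem tau_mem_P0 {q : ℕ} (hq : ∀ l : Fˣ, fr q (fr q l) = l) : ag (1 : Fˣ) 1 ∈ P0 q hq :=
  ⟨1, (Lam2 F).one_mem, Or.inr (by rw [map_one])⟩

/-- the Gram matrix of the hyperbolic form -/
def Jm : Matrix (Fin 2) (Fin 2) F := !![0, 1; 1, 0]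

/-- `a` preserves the hermitian form with Gram matrix `Jm` -/
def UJ (q : ℕ) (a : Matrix (Fin 2) (Fin 2) F) : Prop := aᵀ * Jm * a.map (· ^ q) = Jm

/-- `(l^q)^q = l` in the field with `q²` elements -/
theorem frob2 [Fintype F] {q : ℕ} (hF : Fintype.card F = q ^ 2) (l : Fˣ) : fr q (fr q l) = l := by
  rw [fr_apply, fr_apply, inv_pow, inv_pow, inv_pow, inv_inv, ← pow_mul, ← sq, ← hF]
  apply Units.ext
  rw [Units.val_pow_eq_pow_val, FiniteField.pow_card]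

end Cfsg.Agent.Helper90.Pron
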